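import Cfsg.Agent.Lib.Blocks.LocalRing
import Mathlib.Algebra.MonoidAlgebra.Basic
import Mathlib.Algebra.Algebra.Operations
import Mathlib.RingTheory.Nilpotent.Basic
import Mathlib.RingTheory.Coprime.Lemmas
import Mathlib.LinearAlgebra.Matrix.Charpoly.Coeff
import Mathlib.LinearAlgebra.Matrix.ToLin
import Mathlib.GroupTheory.PGroup

/-!
# Lifting idempotents from the group algebra of a quotient by a p-group

An element with vanishing coset sums over an abelian normal `p`-subgroup is nilpotent in
characteristic `p`.  Over the local ring at `M` an element that is idempotent modulo nilpotents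
modulo `M` gives an exact idempotent as a polynomial in it, the local ring being integrally closed
in an algebraically closed field.
-/

set_option autoImplicit false
set_option linter.unusedSectionVars false

namespace Cfsg.Agent.Lib.IdemIntegral

open MonoidAlgebra Cfsg.Agent.Lib.Blocks

universe u v

section Nilpotent

theorem isNilpotent_span_of_commute {k A : Type*} [CommSemiring k] [Semiring A] [Algebra k A]
    (s : Finset A) (hc : ∀ a ∈ s, ∀ b ∈ s, Commute a b) (hn : ∀ a ∈ s, IsNilpotent a) :
    IsNilpotent (Submodule.span k (s : Set A)) := by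
  classical
  induction s using Finset.induction_on with
  | empty =>
    refine ⟨1, ?_⟩
    rw [pow_one, Finset.coe_empty, Submodule.span_empty]
    rfl
  | insert a s ha ih =>
    have ih' := ih (fun x hx y hy => hc x (Finset.mem_insert_of_mem hx) y (Finset.mem_insert_of_mem hy))
      fun x hx => hn x (Finset.mem_insert_of_mem hx)
    rw [Finset.coe_insert, Submodule.span_insert, ← Submodule.add_eq_sup]
    refine Commute.isNilpotent_add ?_ ?_ ih'
    · show _ * _ = _ * _
      rw [Submodule.span_mul_span, Submodule.span_mul_span, Set.singleton_mul, Set.mul_singleton]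
      congr 1
      exact Set.image_congr fun x hx =>
        (hc a (Finset.mem_insert_self a s) x (Finset.mem_insert_of_mem hx)).eq
    · obtain ⟨n, hn'⟩ := hn a (Finset.mem_insert_self a s)
      refine ⟨n, ?_⟩
      rw [Submodule.span_pow, Set.singleton_pow, hn', Submodule.span_zero_singleton]
      rfl

variable {G : Type u} [Group G] [Finite G] {k : Type v} [CommRing k] {p : ℕ} [Fact p.Prime]
  [CharP k p]

/-- An element with zero sums over the cosets of an abelian normal `p`-subgroup is nilpotent. -/
theorem isNilpotent_of_coset_sum (Q : Subgroup G) [hQn : Q.Normal]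
    (hab : ∀ a ∈ Q, ∀ b ∈ Q, a * b = b * a) (hQ : IsPGroup p Q) [Fintype Q]
    (x : MonoidAlgebra k G) (hx : ∀ g : G, ∑ q : Q, x.coeff (g * (q : G)) = 0) :
    IsNilpotent x := by
  classical
  haveI := Fintype.ofFinite G
  haveI := Fintype.ofFinite (G ⧸ Q)
  rcases subsingleton_or_nontrivial k with hk | hk
  · exact ⟨1, by ext g; exact Subsingleton.elim _ _⟩
  haveI : CharP (MonoidAlgebra k G) p := charP_of_injective_algebraMap
    (R := k) (fun a b h => by
      have := congrArg (fun z : MonoidAlgebra k G => z.coeff 1) h
      simpa [MonoidAlgebra.coe_algebraMap] using this) p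
  set T : Finset (MonoidAlgebra k G) := Finset.univ.image fun q : Q => single (q : G) (1 : k) - 1
  set S := Submodule.span k (T : Set (MonoidAlgebra k G)) with hS
  have hgen : ∀ q : G, q ∈ Q → single q (1 : k) - 1 ∈ S := fun q hq => Submodule.subset_span
    (Finset.mem_image.mpr ⟨⟨q, hq⟩, Finset.mem_univ _, rfl⟩)
  have hSn : IsNilpotent S := by
    refine isNilpotent_span_of_commute T (fun a ha b hb => ?_) fun a ha => ?_
    · obtain ⟨q, -, rfl⟩ := Finset.mem_image.mp ha
      obtain ⟨q', -, rfl⟩ := Finset.mem_image.mp hb
      refine ((Commute.sub_left ?_ (Commute.one_left _)).sub_right (Commute.one_right _))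
      · show _ * _ = _ * _
        rw [single_mul_single, single_mul_single, hab q q.2 q' q'.2]
    · obtain ⟨q, -, rfl⟩ := Finset.mem_image.mp ha
      obtain ⟨j, hj⟩ := hQ q
      refine ⟨p ^ j, ?_⟩
      rw [sub_pow_char_pow_of_commute _ _ (Commute.one_right _), one_pow, single_pow, one_pow,
        ← SubgroupClass.coe_pow, hj, OneMemClass.coe_one, ← one_def, sub_self]
  have hST : S * ⊤ ≤ ⊤ * S := by
    rw [Submodule.mul_le]
    intro a ha z hz
    clear hz
    induction z using MonoidAlgebra.induction_linear with
    | zero => rw [mul_zero]; exact Submodule.zero_mem _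
    | add y y' hy hy' => rw [mul_add]; exact Submodule.add_mem _ (hy) (hy')
    | single g r =>
      induction ha using Submodule.span_induction with
      | mem a ha =>
        obtain ⟨q, -, rfl⟩ := Finset.mem_image.mp ha
        have hconj : g⁻¹ * (q : G) * g ∈ Q := by
          simpa using hQn.conj_mem q q.2 g⁻¹
        have : (single (q : G) (1 : k) - 1) * single g r =
            single g r * (single (g⁻¹ * (q : G) * g) 1 - 1) := by
          rw [sub_mul, mul_sub, one_mul, mul_one, single_mul_single, single_mul_single, one_mul,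
            mul_one]
          group
        rw [this]
        exact Submodule.mul_mem_mul Submodule.mem_top (hgen _ hconj)
      | zero => rw [zero_mul]; exact Submodule.zero_mem _
      | add a b _ _ ha hb => rw [add_mul]; exact Submodule.add_mem _ ha hb
      | smul c a _ ha => rw [smul_mul_assoc]; exact Submodule.smul_mem _ c ha
  have hSpow : ∀ n, S ^ n * ⊤ ≤ ⊤ * S ^ n := fun n => by
    induction n with
    | zero => rw [pow_zero, one_mul, mul_one]
    | succ n ih =>
      calc S ^ (n + 1) * ⊤ = S ^ n * (S * ⊤) := by rw [pow_succ, mul_assoc]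
        _ ≤ S ^ n * (⊤ * S) := mul_le_mul' le_rfl hST
        _ = S ^ n * ⊤ * S := by rw [mul_assoc]
        _ ≤ ⊤ * S ^ n * S := mul_le_mul' ih le_rfl
        _ = ⊤ * S ^ (n + 1) := by rw [pow_succ, mul_assoc]
  have hTS : ∀ n, (⊤ * S) ^ n ≤ ⊤ * S ^ n := fun n => by
    induction n with
    | zero => rw [pow_zero, pow_zero, mul_one]; exact le_top
    | succ n ih =>
      calc (⊤ * S) ^ (n + 1) = (⊤ * S) ^ n * (⊤ * S) := pow_succ _ n
        _ ≤ ⊤ * S ^ n * (⊤ * S) := mul_le_mul' ih le_rfl
        _ = ⊤ * (S ^ n * ⊤) * S := by simp only [mul_assoc]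
        _ ≤ ⊤ * (⊤ * S ^ n) * S := mul_le_mul' (mul_le_mul' le_rfl (hSpow n)) le_rfl
        _ = ⊤ * ⊤ * S ^ (n + 1) := by rw [pow_succ]; simp only [mul_assoc]
        _ ≤ ⊤ * S ^ (n + 1) := mul_le_mul' le_top le_rfl
  have hxS : x ∈ (⊤ : Submodule k (MonoidAlgebra k G)) * S := by
    have h1 : x = ∑ g : G, (single g (x.coeff g) -
        single (QuotientGroup.mk g : G ⧸ Q).out (x.coeff g)) := by
      have h0 : ∑ g : G, single (QuotientGroup.mk g : G ⧸ Q).out (x.coeff g) = 0 := by
        let e : (G ⧸ Q) × Q ≃ G :=
          { toFun := fun a => a.1.out * (a.2 : G)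
            invFun := fun g => (QuotientGroup.mk g,
              ⟨(QuotientGroup.mk g : G ⧸ Q).out⁻¹ * g, by
                rw [← QuotientGroup.eq]; exact Quotient.out_eq _⟩)
            left_inv := fun a => by
              have h : (QuotientGroup.mk (a.1.out * (a.2 : G)) : G ⧸ Q) = a.1 := by
                rw [QuotientGroup.mk_mul_of_mem _ a.2.2]; exact Quotient.out_eq _
              refine Prod.ext h (Subtype.ext ?_)
              show (QuotientGroup.mk (a.1.out * (a.2 : G)) : G ⧸ Q).out⁻¹ * _ = _
              rw [h, inv_mul_cancel_left]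
            right_inv := fun g => mul_inv_cancel_left _ _ }
        rw [← e.sum_comp, Fintype.sum_prod_type]
        refine Finset.sum_eq_zero fun c _ => ?_
        have hc : ∀ q : Q, (QuotientGroup.mk (c.out * (q : G)) : G ⧸ Q) = c := fun q => by
          rw [QuotientGroup.mk_mul_of_mem _ q.2]; exact Quotient.out_eq _
        simp only [e, Equiv.coe_fn_mk, hc]
        rw [← coeff_injective.eq_iff, coeff_sum, coeff_zero]
        simp only [coeff_single]
        rw [← Finsupp.single_finsetSum, hx, Finsupp.single_zero]
      rw [Finset.sum_sub_distrib, h0, sub_zero]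
      ext g
      rw [coeff_sum, Finsupp.finsetSum_apply, Finset.sum_eq_single g] <;> simp +contextual
    rw [h1]
    refine Submodule.sum_mem _ fun g _ => ?_
    set r := (QuotientGroup.mk g : G ⧸ Q).out with hr
    have hmem : r⁻¹ * g ∈ Q := by rw [← QuotientGroup.eq]; exact Quotient.out_eq _
    rw [show single g (x.coeff g) - single r (x.coeff g) =
      single r (x.coeff g) * (single (r⁻¹ * g) 1 - 1) by
        rw [mul_sub, mul_one, single_mul_single, mul_one, mul_inv_cancel_left]]
    exact Submodule.mul_mem_mul Submodule.mem_top (hgen _ hmem)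
  obtain ⟨n, hn⟩ := hSn
  refine ⟨n, ?_⟩
  have := hTS n (Submodule.pow_mem_pow _ hxS n)
  rw [hn, mul_zero] at this
  exact (Submodule.mem_bot k).mp this

end Nilpotent

section Lift

open Polynomial

variable {G : Type u} [Group G] [Finite G] {M : Ideal Cfsg.AlgInt} [M.IsMaximal]

theorem coeff_leftMulMatrix [Fintype G] [DecidableEq G] {R : Type v} [CommRing R]
    (z : MonoidAlgebra R G) (i j : G) :
    Algebra.leftMulMatrix
      (Module.Basis.ofRepr (MonoidAlgebra.coeffLinearEquiv R) :
        Module.Basis G R (MonoidAlgebra R G)) z i j = z.coeff (i * j⁻¹) := by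
  rw [Algebra.leftMulMatrix_eq_repr_mul]
  have hb : (Module.Basis.ofRepr (MonoidAlgebra.coeffLinearEquiv R) :
      Module.Basis G R (MonoidAlgebra R G)) j = MonoidAlgebra.single j 1 := by
    apply MonoidAlgebra.coeff_injective
    simp
  rw [hb]
  show (z * MonoidAlgebra.single j 1).coeff i = _
  rw [coeff_mul_single_apply, mul_one]

/-- An element idempotent modulo nilpotents modulo `M` gives an exact idempotent as a polynomial
in it, with the same image in every algebra in which the element becomes idempotent. -/
theorem exists_idem_lift (a : MonoidAlgebra (localRing M) G)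
    (ha : ∃ n : ℕ, ∀ g : G, residue M (((a * a - a) ^ n).coeff g) = 0) :
    ∃ P : (localRing M)[X], IsIdempotentElem (Polynomial.aeval a P) ∧
      ∀ (B : Type u) [Ring B] [Algebra (localRing M) B]
        (π : MonoidAlgebra (localRing M) G →ₐ[localRing M] B), π a * π a = π a →
        π (Polynomial.aeval a P) = π a := by
  classical
  letI := Ideal.Quotient.field M
  haveI := Fintype.ofFinite G
  obtain ⟨n, hn⟩ := ha
  set bs : Module.Basis G (localRing M) (MonoidAlgebra (localRing M) G) :=
    Module.Basis.ofRepr (MonoidAlgebra.coeffLinearEquiv (localRing M))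
  set Φ := Algebra.leftMulMatrix bs with hΦ
  set χ := (Φ a).charpoly with hχ
  have hmon : χ.Monic := Matrix.charpoly_monic _
  have hχa : Polynomial.aeval a χ = 0 := by
    refine Algebra.leftMulMatrix_injective bs ?_
    rw [← Polynomial.aeval_algHom_apply, map_zero]
    exact Matrix.aeval_self_charpoly _
  set sub := (localRing M).subtype
  have hsplit : (χ.map sub).Splits := IsAlgClosed.splits _
  have hrootR : ∀ r ∈ (χ.map sub).roots, r ∈ (localRing M) := fun r hr =>
    mem_localRing_of_monic_root (hmon.map sub) (fun i => by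
      rw [Polynomial.coeff_map]; exact (χ.coeff i).2) ((mem_roots (hmon.map sub).ne_zero).mp hr)
  set rs : Multiset (localRing M) := (χ.map sub).roots.pmap (fun r hr => (⟨r, hr⟩ : (localRing M))) hrootR with hrs
  have hprod : χ = (rs.map fun r => X - C r).prod := by
    refine Polynomial.map_injective sub Subtype.val_injective ?_
    rw [Polynomial.map_multiset_prod, Multiset.map_map, hrs, Multiset.map_pmap]
    conv_lhs => rw [hsplit.eq_prod_roots_of_monic (hmon.map sub)]
    congr 1
    rw [← Multiset.pmap_eq_map _ (fun r : ℂ => X - C r) _ hrootR]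
    exact Multiset.pmap_congr _ fun r _ _ _ => by simp [sub]
  set Abar := (Φ a).map (residue M) with hAbar
  have hq : (Abar * Abar - Abar) ^ n = 0 := by
    have h : (residue M).mapMatrix (Φ ((a * a - a) ^ n)) = 0 := by
      ext i j
      rw [RingHom.mapMatrix_apply, Matrix.map_apply, hΦ, coeff_leftMulMatrix, hn]
      rfl
    rw [map_pow, map_sub, map_mul, map_pow, map_sub, map_mul, RingHom.mapMatrix_apply] at h
    exact h
  have h01 : ∀ r ∈ rs, residue M r = 0 ∨ residue M r = 1 := by
    intro r hr
    set l := residue M r
    have hroot : χ.eval r = 0 := by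
      rw [hprod, eval_multiset_prod, Multiset.map_map]
      exact Multiset.prod_eq_zero (Multiset.mem_map.mpr ⟨r, hr, by simp⟩)
    have hdet : (Matrix.scalar G l - Abar).det = 0 := by
      rw [← Matrix.eval_charpoly, hAbar, Matrix.charpoly_map, eval_map, eval₂_at_apply, ← hχ,
        hroot, map_zero]
    set q : (Cfsg.AlgInt ⧸ M)[X] := (X * X - X) ^ n with hq'
    obtain ⟨s, hs⟩ := (X_sub_C_dvd_sub_C_eval (a := l) (p := q))
    have h2 := congrArg (Polynomial.aeval Abar) hs
    simp only [map_sub, map_mul, aeval_X, aeval_C, Algebra.algebraMap_eq_smul_one] at h2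
    rw [show Polynomial.aeval Abar q = 0 by simp [hq', hq], zero_sub] at h2
    have h3 := congrArg Matrix.det h2
    rw [Matrix.det_mul, show Abar - l • (1 : Matrix G G (Cfsg.AlgInt ⧸ M)) =
      -(Matrix.scalar G l - Abar) by rw [neg_sub, Matrix.smul_one_eq_diagonal]; rfl,
      Matrix.det_neg (Matrix.scalar G l - Abar), hdet, mul_zero, zero_mul, Matrix.det_neg,
      Matrix.det_smul, Matrix.det_one, mul_one, mul_eq_zero] at h3
    have h4 : q.eval l = 0 := pow_eq_zero_iff Fintype.card_ne_zero |>.mp
      (h3.resolve_left (pow_ne_zero _ (neg_ne_zero.mpr one_ne_zero)))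
    rw [hq', eval_pow, eval_sub, eval_mul, eval_X] at h4
    have h5 : l * l - l = 0 := by
      rcases Nat.eq_zero_or_pos n with h0 | h0
      · rw [h0, pow_zero] at h4; exact absurd h4 one_ne_zero
      · exact (pow_eq_zero_iff h0.ne').mp h4
    rw [show l * l - l = l * (l - 1) by ring, mul_eq_zero, sub_eq_zero] at h5
    exact h5
  set P0 := ((rs.filter fun r => residue M r = 0).map fun r => X - C r).prod with hP0
  set P1 := ((rs.filter fun r => ¬ residue M r = 0).map fun r => X - C r).prod with hP1
  have hχP : χ = P0 * P1 := by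
    rw [hP0, hP1, ← Multiset.prod_add, ← Multiset.map_add, Multiset.filter_add_not, hprod]
  have hlist : ∀ (s : Multiset (localRing M)[X]) (f : (localRing M)[X]), (∀ x ∈ s, IsCoprime x f) → IsCoprime s.prod f := by
    intro s f hs
    induction s using Multiset.induction_on with
    | empty => simpa using isCoprime_one_left
    | cons x s ih =>
      rw [Multiset.prod_cons]
      exact (hs x (Multiset.mem_cons_self x s)).mul_left (ih fun y hy =>
        hs y (Multiset.mem_cons_of_mem hy))
  have hcop : IsCoprime P0 P1 := by
    refine hlist _ _ fun x hx => (hlist _ _ fun y hy => ?_).symm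
    obtain ⟨r, hr, rfl⟩ := Multiset.mem_map.mp hx
    obtain ⟨s, hs, rfl⟩ := Multiset.mem_map.mp hy
    rw [Multiset.mem_filter] at hr hs
    refine isCoprime_X_sub_C_of_isUnit_sub ?_
    rw [isUnit_localRing_iff, map_sub, hr.2, sub_zero]
    exact hs.2
  have hP01 : IsUnit (P0.eval 1) := by
    rw [hP0, eval_multiset_prod, Multiset.map_map]
    refine (Multiset.prod_induction IsUnit _ (fun a b => IsUnit.mul) isUnit_one fun x hx => ?_)
    obtain ⟨r, hr, rfl⟩ := Multiset.mem_map.mp hx
    simp only [Function.comp_apply, eval_sub, eval_X, eval_C]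
    rw [isUnit_localRing_iff, map_sub, map_one, (Multiset.mem_filter.mp hr).2, sub_zero]
    exact one_ne_zero
  have hP10 : IsUnit (P1.eval 0) := by
    rw [hP1, eval_multiset_prod, Multiset.map_map]
    refine (Multiset.prod_induction IsUnit _ (fun a b => IsUnit.mul) isUnit_one fun x hx => ?_)
    obtain ⟨r, hr, rfl⟩ := Multiset.mem_map.mp hx
    simp only [Function.comp_apply, eval_sub, eval_X, eval_C]
    rw [isUnit_localRing_iff, map_sub, map_zero, zero_sub, neg_ne_zero]
    exact (Multiset.mem_filter.mp hr).2
  obtain ⟨c, d, hcd⟩ := hcop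
  refine ⟨c * P0, ?_, fun B _ _ π hb => ?_⟩
  · have hk : (c * P0) * (c * P0) - c * P0 = -(c * d) * χ := by
      rw [hχP]
      linear_combination (c * P0) * hcd
    have := congrArg (Polynomial.aeval a) hk
    rw [map_sub, map_mul, map_mul (Polynomial.aeval a) (-(c * d)), hχa, mul_zero, sub_eq_zero] at this
    exact this
  · set b := π a with hbdef
    have hev : ∀ f : (localRing M)[X], π (Polynomial.aeval a f) = f.eval 0 • (1 - b) + f.eval 1 • b := by
      intro f
      rw [← Polynomial.aeval_algHom_apply]
      change Polynomial.aeval b f = _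
      induction f using Polynomial.induction_on' with
      | add f g hf hg => simp only [map_add, eval_add, add_smul, hf, hg]; abel
      | monomial i r =>
        rw [aeval_monomial, ← Algebra.smul_def, eval_monomial, eval_monomial, one_pow, mul_one]
        rcases i with - | i
        · rw [pow_zero, pow_zero, mul_one, smul_sub, sub_add_cancel]
        · rw [zero_pow (Nat.succ_ne_zero i), mul_zero, zero_smul, zero_add,
            (show IsIdempotentElem b from hb).pow_succ_eq]
    have h0 := hev χ
    rw [hχa, map_zero] at h0
    have h1 : χ.eval 1 • b = 0 := by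
      have := congrArg (· * b) h0.symm
      simp only [add_mul, smul_mul_assoc, sub_mul, one_mul, hb, sub_self, smul_zero, zero_add,
        zero_mul] at this
      exact this
    have h2 : χ.eval 0 • (1 - b) = 0 := by rw [h1, add_zero] at h0; exact h0.symm
    rw [hχP, eval_mul, mul_smul] at h1
    rw [hχP, eval_mul, mul_comm, mul_smul] at h2
    have h3 : P1.eval 1 • b = 0 := hP01.smul_eq_zero.mp h1
    have h4 : P0.eval 0 • (1 - b) = 0 := hP10.smul_eq_zero.mp h2
    have h5 : (c * P0).eval 1 • b = b := by
      have := congrArg (fun f : (localRing M)[X] => f.eval 1 • b) hcd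
      simp only [eval_add, eval_one, one_smul, add_smul] at this
      rw [eval_mul (p := d), mul_smul (d.eval 1), h3, smul_zero, add_zero] at this
      exact this
    rw [hev, eval_mul, mul_smul, h4, smul_zero, zero_add, h5]

end Lift

end Cfsg.Agent.Lib.IdemIntegral
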