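import Cfsg.Agent.Lib.Brauer.ProjExt
import Cfsg.Agent.Lib.Blocks.Basic
import Cfsg.Agent.Lib.Blocks.DefectGroup
import Cfsg.Agent.Lib.BlocksChars5.Basic
import Cfsg.Agent.Lib.PSolvable.Basic

/-!
# Integrality of an idempotent through a normal p'-subgroup

For a central idempotent vanishing at the `p`-singular elements and an irreducible representation of
a normal `p'`-subgroup `N`, the averages over the cosets of `N` give an idempotent of the same kind
in a central extension by a `p'`-group of a subgroup of `G/N`; the original coefficients are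
integral when those are.
-/

set_option autoImplicit false
set_option linter.unusedSectionVars false

namespace Cfsg.Agent.Lib.IdemIntegral

open MonoidAlgebra Cfsg.Agent.Lib.Blocks Cfsg.Agent.Lib.BrauerMap.Basic
open Cfsg.Agent.Lib.Brauer.ProjExt (cn Gam)
open Cfsg.Agent.Lib.Clifford Cfsg.Agent.Lib.Characters.Basic

universe u

/-- An idempotent with the properties that force integrality. -/
def IsRegIdem (p : ℕ) {G : Type u} [Group G] (e : MonoidAlgebra ℂ G) : Prop :=
  (∀ a g : G, e.coeff (a * g * a⁻¹) = e.coeff g) ∧ e * e = e ∧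
    ∀ g : G, p ∣ orderOf g → e.coeff g = 0

/-- Every such idempotent is integral at `M`. -/
def AllIntegral (p : ℕ) (M : Ideal Cfsg.AlgInt) [M.IsMaximal] (G : Type u) [Group G] : Prop :=
  ∀ e : MonoidAlgebra ℂ G, IsRegIdem p e → ∀ g : G, e.coeff g ∈ localRing M

variable {G : Type u} [Group G] [Finite G] {p : ℕ} [Fact p.Prime]
  {M : Ideal Cfsg.AlgInt} [M.IsMaximal]

theorem inv_natCast_mem (hM : Cfsg.IsPModular p M) {n : ℕ} (hn : n.Coprime p) :
    (n : ℂ)⁻¹ ∈ localRing M :=
  inv_mem_localRing (natCast_mem _ n) fun h =>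
    (Nat.Prime.coprime_iff_not_dvd hM.1).mp hn.symm ((memLocalIdeal_natCast_iff hM n).mp h)

/-- A group of order prime to `p`. -/
theorem allIntegral_of_coprime (hM : Cfsg.IsPModular p M) (hG : (Nat.card G).Coprime p) :
    AllIntegral p M G := by
  classical
  intro e he g
  haveI := Fintype.ofFinite (Cfsg.IrrCharacter G)
  set z : Subalgebra.center ℂ (MonoidAlgebra ℂ G) := ⟨e, (mem_center_iff_coeff e).mpr he.1⟩
  have hz : z * z = z := Subtype.ext he.2.1
  set A : Set (Cfsg.IrrCharacter G) := {χ | omega χ z = 1}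
  have hzA : z = idem A := eq_of_omega_eq fun χ => by
    rw [omega_idem]
    have h : omega χ z * omega χ z = omega χ z := by rw [← map_mul, hz]
    split_ifs with hχ
    · exact hχ
    · exact ((IsIdempotentElem.iff_eq_zero_or_one.mp h).resolve_right hχ)
  rw [show e.coeff g = Cfsg.blockCoeff A g by
    rw [← coeff_idem, ← hzA], Cfsg.blockCoeff, finsum_mem_eq_toFinset_sum]
  refine mul_mem (inv_natCast_mem hM hG) (sum_mem fun χ _ => mul_mem (char_mem_localRing χ 1) ?_)
  rw [← apply_inv (isCharacter_irr χ)]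
  exact char_mem_localRing χ g⁻¹

variable (N : Subgroup G) [hN : N.Normal] {d : ℕ} (ρ : Representation ℂ N (Fin d → ℂ))

/-- The intertwiners whose determinant is a root of unity of order dividing `|N|`. -/
noncomputable def detPow : Gam N ρ →* ℂ where
  toFun γ := LinearMap.det (γ.1.2 : Module.End ℂ (Fin d → ℂ)) ^ Nat.card N
  map_one' := by simp
  map_mul' a b := by simp [mul_pow]

/-- The central extension before dividing by `N`. -/
noncomputable abbrev Ext : Subgroup (Gam N ρ) := (detPow N ρ).ker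

noncomputable def pr : Ext N ρ →* G := (Brauer.ProjExt.proj N ρ).comp (Ext N ρ).subtype

noncomputable def tau : Representation ℂ (Ext N ρ) (Fin d → ℂ) :=
  (Brauer.ProjExt.taut N ρ).comp (Ext N ρ).subtype

theorem tau_mul (γ : Ext N ρ) (n : N) :
    tau N ρ γ * ρ n = ρ (cn N (pr N ρ γ) n) * tau N ρ γ := γ.1.2.1 n

theorem tau_inv_mul (γ : Ext N ρ) (n : N) :
    tau N ρ γ⁻¹ * ρ n * tau N ρ γ = ρ (cn N (pr N ρ γ)⁻¹ n) := by
  rw [tau_mul, map_inv, mul_assoc, ← map_mul (tau N ρ), inv_mul_cancel, map_one, mul_one]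

/-- `N` inside the extension. -/
noncomputable def emb : N →* Ext N ρ where
  toFun n := ⟨Brauer.ProjExt.emb N ρ n, by
    show LinearMap.det (ρ n) ^ Nat.card N = 1
    rw [← map_pow, ← map_pow, pow_card_eq_one', map_one, map_one]⟩
  map_one' := Subtype.ext (map_one _)
  map_mul' a b := Subtype.ext (map_mul _ a b)

theorem pr_emb (n : N) : pr N ρ (emb N ρ n) = n := rfl

theorem tau_emb (n : N) : tau N ρ (emb N ρ n) = ρ n := rfl

theorem ext_ext {a b : Ext N ρ} (h1 : pr N ρ a = pr N ρ b) (h2 : tau N ρ a = tau N ρ b) : a = b :=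
  Subtype.ext (Subtype.ext (Prod.ext h1 (Units.ext h2)))

theorem conj_emb (γ : Ext N ρ) (n : N) :
    γ * emb N ρ n * γ⁻¹ = emb N ρ (cn N (pr N ρ γ) n) := by
  refine ext_ext N ρ ?_ ?_
  · simp only [map_mul, map_inv, pr_emb]; rfl
  · rw [map_mul, map_mul, tau_emb, tau_emb, tau_mul, mul_assoc, ← map_mul (tau N ρ),
      mul_inv_cancel, map_one, mul_one]

theorem emb_range_normal : (emb N ρ).range.Normal :=
  ⟨by rintro _ ⟨n, rfl⟩ γ; exact ⟨_, (conj_emb N ρ γ n).symm⟩⟩

theorem card_emb_range : Nat.card (emb N ρ).range = Nat.card N :=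
  (Nat.card_congr (MonoidHom.ofInjective (f := emb N ρ) fun a b h =>
    Subtype.ext (congrArg (pr N ρ) h)).toEquiv).symm

variable [hρ : ρ.IsIrreducible]

include hρ in
theorem finite_ext : Finite (Ext N ρ) := by
  haveI := Brauer.ProjExt.finite_Gam N ρ
  infer_instance

include hρ in
theorem exists_scalar_ker (γ : (pr N ρ).ker) : ∃ c : ℂ, tau N ρ γ.1 = c • 1 :=
  Brauer.ProjExt.exists_scalar N ρ (g := 1) isUnit_one
    (fun n => by simp [Brauer.ProjExt.cn_one]) (fun n => by
      have h1 : pr N ρ γ.1 = 1 := γ.2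
      have := tau_mul N ρ γ.1 n
      rwa [h1] at this)

include hρ in
theorem commute_ker (γ : (pr N ρ).ker) (δ : Ext N ρ) : γ.1 * δ = δ * γ.1 := by
  obtain ⟨c, hc⟩ := exists_scalar_ker N ρ γ
  refine ext_ext N ρ ?_ ?_
  · rw [map_mul, map_mul, show pr N ρ γ.1 = 1 from γ.2, one_mul, mul_one]
  · rw [map_mul, map_mul, hc, smul_one_mul, mul_smul_comm, mul_one]

include hρ in
theorem coprime_card_ker (hNp : (Nat.card N).Coprime p) :
    (Nat.card (pr N ρ).ker).Coprime p := by
  haveI := finite_ext N ρ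
  have hd : d ∣ Nat.card N := by
    haveI := Fintype.ofFinite N
    have h := BlocksChars5.Basic.degree_dvd_card (⟨ρ.character, d, ρ, hρ, rfl⟩ : Cfsg.IrrCharacter N)
    rwa [show Cfsg.charDegree ρ.character = d by
      simp [Cfsg.charDegree, Representation.char_one]] at h
  refine (Nat.coprime_comm.mp ((Fact.out : p.Prime).coprime_iff_not_dvd.mpr fun hdvd => ?_))
  obtain ⟨γ, hγ⟩ := exists_prime_orderOf_dvd_card' p hdvd
  obtain ⟨c, hc⟩ := exists_scalar_ker N ρ γ
  have h1 : c ^ (d * Nat.card N) = 1 := by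
    have hk : LinearMap.det (tau N ρ γ.1) ^ Nat.card N = 1 := γ.1.2
    rw [hc, LinearMap.det_smul, map_one, mul_one, Module.finrank_fin_fun, ← pow_mul] at hk
    exact hk
  have h2 : γ ^ (d * Nat.card N) = 1 := Subtype.ext <| ext_ext N ρ
    (by rw [SubgroupClass.coe_pow, map_pow, show pr N ρ γ.1 = 1 from γ.2, one_pow,
      OneMemClass.coe_one, map_one])
    (by rw [SubgroupClass.coe_pow, map_pow, hc, smul_pow, one_pow, h1, one_smul,
      OneMemClass.coe_one, map_one])
  have h3 := orderOf_dvd_of_pow_eq_one h2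
  rw [hγ] at h3
  have hnp := (Fact.out : p.Prime).coprime_iff_not_dvd.mp hNp.symm
  exact ((Fact.out : p.Prime).dvd_mul.mp h3).elim (fun h => hnp (h.trans hd)) hnp

set_option maxHeartbeats 1000000 in
include hρ in
/-- The averages of the idempotent against `ρ` are integral. -/
theorem trace_mem (hM : Cfsg.IsPModular p M) (hsolv : Cfsg.IsPSolvable p G)
    (hNp : (Nat.card N).Coprime p)
    (hIH : ∀ (Q : Type u) [Group Q] [Finite Q], Cfsg.IsPSolvable p Q →
      (Subgroup.center Q).index ≤ N.index → AllIntegral p M Q)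
    [Fintype N] (e : MonoidAlgebra ℂ G) (he : IsRegIdem p e) (g : G) :
    LinearMap.trace ℂ (Fin d → ℂ) (∑ m : N, e.coeff (g * (m : G)) • ρ m) ∈ localRing M := by
  classical
  haveI := finite_ext N ρ
  haveI := Fintype.ofFinite G
  haveI := Fintype.ofFinite (Ext N ρ)
  haveI := emb_range_normal N ρ
  haveI := Fintype.ofFinite (emb N ρ).range
  haveI := Fintype.ofFinite (Ext N ρ ⧸ (emb N ρ).range)
  obtain ⟨hc, hee, hs⟩ := he
  have hd0 : (d : ℂ) ≠ 0 := by
    haveI := Rep.nontrivial_of_irreducible ρ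
    have := Module.finrank_pos (R := ℂ) (M := Fin d → ℂ)
    rw [Module.finrank_fin_fun] at this
    exact_mod_cast this.ne'
  set K := Nat.card (pr N ρ).ker with hK
  have hK0 : (K : ℂ) ≠ 0 := Nat.cast_ne_zero.mpr Nat.card_pos.ne'
  set y : G → Module.End ℂ (Fin d → ℂ) := fun t => ∑ m : N, e.coeff (t * (m : G)) • ρ m with hy
  have hyint : ∀ t n, y t * ρ n = ρ (cn N t⁻¹ n) * y t := by
    intro t n
    simp only [hy, Finset.sum_mul, Finset.mul_sum, smul_mul_assoc, mul_smul_comm, ← map_mul]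
    refine Fintype.sum_equiv
      ((Equiv.mulRight n).trans (Equiv.mulLeft (cn N t⁻¹ n)⁻¹)) _ _ fun m => ?_
    simp only [Equiv.trans_apply, Equiv.coe_mulRight, Equiv.coe_mulLeft, mul_inv_cancel_left]
    congr 1
    rw [← hc (n : G) (t * ((((cn N t⁻¹ n)⁻¹ * (m * n) : N)) : G))]
    congr 1
    simp [cn, mul_assoc]
  have hyzero : ∀ t, t ∉ (pr N ρ).range → y t = 0 := by
    intro t ht
    by_contra hne
    apply ht
    let W : Subrepresentation ρ := ⟨LinearMap.ker (y t), fun n v hv => by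
      rw [LinearMap.mem_ker] at hv ⊢
      have := LinearMap.congr_fun (hyint t n) v
      rw [Module.End.mul_apply, Module.End.mul_apply, hv, map_zero] at this
      exact this⟩
    have hker : LinearMap.ker (y t) = ⊥ := by
      rcases (IsSimpleOrder.eq_bot_or_eq_top W) with h | h
      · exact congrArg Subrepresentation.toSubmodule h
      · exact absurd (LinearMap.ker_eq_top.mp (congrArg Subrepresentation.toSubmodule h)) hne
    have hu : IsUnit (y t) := (LinearMap.isUnit_iff_ker_eq_bot _).mpr hker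
    obtain ⟨u, hu⟩ := hu
    obtain ⟨c, hc'⟩ := IsAlgClosed.exists_pow_nat_eq
      (LinearMap.det (u : Module.End ℂ (Fin d → ℂ))) (Nat.pos_of_ne_zero (n := d) fun h => hd0 (by simp [h]))
    have hdet : LinearMap.det (u : Module.End ℂ (Fin d → ℂ)) ≠ 0 :=
      (LinearMap.isUnit_iff_isUnit_det _ |>.mp u.isUnit).ne_zero
    have hA : IsUnit (c • ((u⁻¹ : (Module.End ℂ (Fin d → ℂ))ˣ) : Module.End ℂ (Fin d → ℂ))) := by
      rw [LinearMap.isUnit_iff_isUnit_det, LinearMap.det_smul, Module.finrank_fin_fun, hc', ← map_mul,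
        Units.mul_inv, map_one]
      exact isUnit_one
    have hdetA : LinearMap.det (hA.unit : Module.End ℂ (Fin d → ℂ)) = 1 := by
      rw [IsUnit.unit_spec, LinearMap.det_smul, Module.finrank_fin_fun, hc', ← map_mul,
        Units.mul_inv, map_one]
    have hint : ∀ n : N, (hA.unit : Module.End ℂ (Fin d → ℂ)) * ρ n =
        ρ (cn N t n) * (hA.unit : Module.End ℂ (Fin d → ℂ)) := by
      intro n
      rw [IsUnit.unit_spec, smul_mul_assoc, mul_smul_comm]
      congr 1
      rw [Units.inv_mul_eq_iff_eq_mul, ← mul_assoc, hu, hyint, ← Brauer.ProjExt.cn_mul,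
        inv_mul_cancel, Brauer.ProjExt.cn_one, mul_assoc, ← hu, Units.mul_inv, mul_one]
    exact ⟨⟨⟨(t, hA.unit), hint, by
        show (LinearMap.det (hA.unit : Module.End ℂ (Fin d → ℂ))) ^ Nat.card G = (1 : ℂ)
        rw [hdetA, one_pow]⟩,
      by
        show (LinearMap.det (hA.unit : Module.End ℂ (Fin d → ℂ))) ^ Nat.card N = (1 : ℂ)
        rw [hdetA, one_pow]⟩, rfl⟩
  set f : Ext N ρ → ℂ := fun γ => (K : ℂ)⁻¹ * (d : ℂ)⁻¹ *
    LinearMap.trace ℂ _ (tau N ρ γ * y (pr N ρ γ)) with hf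
  have hkey : ∀ γ, tau N ρ γ * y (pr N ρ γ) = ((K : ℂ) * f γ) • 1 := by
    intro γ
    obtain ⟨c, hc'⟩ := Rep.schur ρ (tau N ρ γ * y (pr N ρ γ)) (fun n => by
      rw [mul_assoc, hyint, ← mul_assoc, tau_mul, ← Brauer.ProjExt.cn_mul, mul_inv_cancel,
        Brauer.ProjExt.cn_one, mul_assoc])
    simp only [hf]
    rw [hc', map_smul, LinearMap.trace_one, Module.finrank_fin_fun, smul_eq_mul]
    congr 1
    field_simp
  have hyγ : ∀ γ, y (pr N ρ γ) = ((K : ℂ) * f γ) • tau N ρ γ⁻¹ := fun γ => by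
    rw [← mul_smul_one ((K : ℂ) * f γ) (tau N ρ γ⁻¹), ← hkey, ← mul_assoc, ← map_mul,
      inv_mul_cancel, map_one, one_mul]
  have hfN : ∀ γ n, f (γ * emb N ρ n) = f γ := by
    intro γ n
    simp only [hf]
    congr 2
    rw [map_mul, map_mul, tau_emb, pr_emb, mul_assoc]
    congr 1
    simp only [hy, Finset.mul_sum, mul_smul_comm, ← map_mul]
    exact Fintype.sum_equiv (Equiv.mulLeft n) _ _ fun m => by
      rw [Equiv.coe_mulLeft, Subgroup.coe_mul, mul_assoc]
  have hfconj : ∀ δ γ, f (δ * γ * δ⁻¹) = f γ := by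
    intro δ γ
    simp only [hf]
    congr 1
    have hyc : y (pr N ρ (δ * γ * δ⁻¹)) = tau N ρ δ * y (pr N ρ γ) * tau N ρ δ⁻¹ := by
      simp only [hy, Finset.mul_sum, Finset.sum_mul, mul_smul_comm, smul_mul_assoc]
      symm
      refine Fintype.sum_equiv
        ⟨cn N (pr N ρ δ), cn N (pr N ρ δ)⁻¹,
          fun m => by rw [← Brauer.ProjExt.cn_mul, inv_mul_cancel, Brauer.ProjExt.cn_one],
          fun m => by rw [← Brauer.ProjExt.cn_mul, mul_inv_cancel, Brauer.ProjExt.cn_one]⟩ _ _
        fun m => ?_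
      simp only [Equiv.coe_fn_mk]
      rw [tau_mul, mul_assoc, ← map_mul (tau N ρ), mul_inv_cancel, map_one, mul_one]
      congr 1
      rw [← hc (pr N ρ δ) (pr N ρ γ * (m : G))]
      congr 1
      simp [cn, map_mul, map_inv, mul_assoc]
    rw [hyc, map_mul (tau N ρ), map_mul (tau N ρ), show tau N ρ δ * tau N ρ γ * tau N ρ δ⁻¹ *
      (tau N ρ δ * y (pr N ρ γ) * tau N ρ δ⁻¹) = tau N ρ δ * tau N ρ γ *
      (tau N ρ δ⁻¹ * tau N ρ δ) * (y (pr N ρ γ) * tau N ρ δ⁻¹) by simp only [mul_assoc],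
      ← map_mul (tau N ρ) δ⁻¹, inv_mul_cancel, map_one, mul_one, LinearMap.trace_mul_comm,
      ← mul_assoc, mul_assoc (y _), ← map_mul (tau N ρ) δ⁻¹, inv_mul_cancel, map_one, mul_one,
      LinearMap.trace_mul_comm]
  -- summing over the fibres of the projection
  have hfib : ∀ F : G → Module.End ℂ (Fin d → ℂ), (∀ a, a ∉ (pr N ρ).range → F a = 0) →
      ∑ γ : Ext N ρ, F (pr N ρ γ) = (K : ℂ) • ∑ a : G, F a := by
    intro F hF
    rw [Finset.smul_sum, ← Finset.sum_fiberwise Finset.univ (pr N ρ)]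
    refine Finset.sum_congr rfl fun a _ => ?_
    rw [Finset.sum_congr rfl (g := fun _ => F a) (fun γ hγ => by rw [(Finset.mem_filter.mp hγ).2]),
      Finset.sum_const]
    by_cases ha : a ∈ (pr N ρ).range
    · obtain ⟨γ₀, hγ₀⟩ := ha
      rw [← Nat.cast_smul_eq_nsmul ℂ]
      congr 2
      rw [← Fintype.card_subtype, ← Nat.card_eq_fintype_card, hK]
      exact Nat.card_congr
        { toFun := fun γ => ⟨γ₀⁻¹ * γ.1, by
            rw [MonoidHom.mem_ker, map_mul, map_inv, hγ₀, γ.2, inv_mul_cancel]⟩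
          invFun := fun γ => ⟨γ₀ * γ.1, by
            rw [map_mul, (MonoidHom.mem_ker.mp γ.2), hγ₀, mul_one]⟩
          left_inv := fun γ => Subtype.ext (mul_inv_cancel_left _ _)
          right_inv := fun γ => Subtype.ext (inv_mul_cancel_left _ _) }
    · rw [hF a ha]; simp
  -- the convolution
  have hconv : ∀ δ, ∑ γ : Ext N ρ, f γ * f (γ⁻¹ * δ) = (Nat.card N : ℂ) * f δ := by
    intro δ
    set t := pr N ρ δ with ht
    set F : G → Module.End ℂ (Fin d → ℂ) := fun a =>
      (∑ m : N, e.coeff (a * (m : G)) • ρ (cn N (a⁻¹ * t)⁻¹ m)) * y (a⁻¹ * t) with hFdef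
    have hF0 : ∀ a, a ∉ (pr N ρ).range → F a = 0 := fun a ha => by
      rw [hFdef]
      simp only
      rw [hyzero (a⁻¹ * t) fun h => ha ?_, mul_zero]
      have := Subgroup.mul_mem _ (⟨δ, rfl⟩ : t ∈ (pr N ρ).range) (Subgroup.inv_mem _ h)
      simpa [mul_inv_rev, ← mul_assoc] using this
    have hsumF : (Nat.card N : ℂ) • y t = ∑ a : G, F a := by
      have hexp : ∀ x : G, e.coeff x = ∑ a : G, e.coeff a * e.coeff (a⁻¹ * x) := fun x => by
        conv_lhs => rw [← hee]
        exact coeff_mul_sum e e x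
      calc (Nat.card N : ℂ) • y t
          = ∑ m1 : N, ∑ m : N, ∑ a : G,
              (e.coeff (a * (m1 : G)) * e.coeff ((a * (m1 : G))⁻¹ * (t * (m : G)))) • ρ m := by
            rw [Nat.cast_smul_eq_nsmul ℂ, Nat.card_eq_fintype_card, ← Finset.card_univ,
              ← Finset.sum_const]
            refine Finset.sum_congr rfl fun m1 _ => ?_
            simp only [hy]
            refine Finset.sum_congr rfl fun m _ => ?_
            conv_lhs => rw [hexp (t * (m : G))]
            rw [Finset.sum_smul]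
            exact (Fintype.sum_equiv (Equiv.mulRight (m1 : G)) _ _ fun a => rfl).symm
        _ = ∑ a : G, F a := by
            rw [Finset.sum_congr rfl fun m1 _ => Finset.sum_comm, Finset.sum_comm]
            refine Finset.sum_congr rfl fun a _ => ?_
            simp only [hFdef, hy]
            rw [Finset.sum_mul]
            refine Finset.sum_congr rfl fun m1 _ => ?_
            rw [smul_mul_assoc, Finset.mul_sum, Finset.smul_sum]
            simp only [mul_smul_comm, smul_smul, ← map_mul]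
            refine (Fintype.sum_equiv (Equiv.mulLeft (cn N (a⁻¹ * t)⁻¹ m1)) _ _ fun m => ?_).symm
            simp only [Equiv.coe_mulLeft]
            congr 2
            congr 1
            simp [cn, mul_assoc]
    have h2 := hfib F hF0
    rw [← hsumF, hyγ δ] at h2
    have hterm : ∀ γ, F (pr N ρ γ) =
        ((K : ℂ) * f γ * ((K : ℂ) * f (γ⁻¹ * δ))) • tau N ρ δ⁻¹ := by
      intro γ
      have hu : (pr N ρ γ)⁻¹ * t = pr N ρ (γ⁻¹ * δ) := by rw [map_mul, map_inv]
      simp only [hFdef, hu]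
      rw [Finset.sum_congr rfl (g := fun m : N => tau N ρ (γ⁻¹ * δ)⁻¹ *
          (e.coeff (pr N ρ γ * (m : G)) • ρ m) * tau N ρ (γ⁻¹ * δ))
        (fun m _ => by rw [mul_smul_comm, smul_mul_assoc, tau_inv_mul]),
        ← Finset.sum_mul, ← Finset.mul_sum]
      change tau N ρ (γ⁻¹ * δ)⁻¹ * y (pr N ρ γ) * tau N ρ (γ⁻¹ * δ) * y (pr N ρ (γ⁻¹ * δ)) = _
      rw [mul_assoc, hkey, mul_smul_comm, mul_one, hyγ, mul_smul_comm, smul_smul, ← map_mul,
        mul_inv_rev, inv_inv, mul_assoc δ⁻¹, mul_inv_cancel, mul_one, mul_comm]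
    simp only [hterm, ← Finset.sum_smul, smul_smul] at h2
    haveI := Rep.nontrivial_of_irreducible ρ
    have h3 := Brauer.ProjExt.scalar_inj N ρ (T := tau N ρ δ⁻¹) ((Group.isUnit _).map (tau N ρ)) h2
    rw [Finset.sum_congr rfl (fun γ _ => show (K : ℂ) * f γ * ((K : ℂ) * f (γ⁻¹ * δ)) =
      ((K : ℂ) * K) * (f γ * f (γ⁻¹ * δ)) by ring), ← Finset.mul_sum] at h3
    exact mul_left_cancel₀ (mul_ne_zero hK0 hK0) (h3.trans (by ring))
  -- the quotient
  set π := QuotientGroup.mk' (emb N ρ).range with hπ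
  set e' : MonoidAlgebra ℂ (Ext N ρ ⧸ (emb N ρ).range) :=
    ofCoeff (Finsupp.equivFunOnFinite.symm fun q => f q.out) with he'
  have he'c : ∀ γ, e'.coeff (π γ) = f γ := by
    intro γ
    show f (π γ).out = f γ
    obtain ⟨⟨_, n, rfl⟩, hn⟩ := QuotientGroup.mk_out_eq_mul (emb N ρ).range γ
    exact (congrArg f hn).trans (hfN γ n)
  have hπs : Function.Surjective π := QuotientGroup.mk'_surjective _
  have hQ : IsRegIdem p e' := by
    refine ⟨fun a q => ?_, ?_, fun q hq => ?_⟩
    · obtain ⟨δ, rfl⟩ := hπs a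
      obtain ⟨γ, rfl⟩ := hπs q
      rw [← map_inv, ← map_mul, ← map_mul, he'c, he'c, hfconj]
    · ext q
      obtain ⟨δ, rfl⟩ := hπs q
      rw [coeff_mul_sum, he'c]
      refine mul_left_cancel₀ (Nat.cast_ne_zero.mpr (Nat.card_pos (α := N)).ne' : (Nat.card N : ℂ) ≠ 0) ?_
      rw [← hconv δ]
      conv_rhs => rw [← Finset.sum_fiberwise Finset.univ π]
      rw [Finset.mul_sum]
      refine Finset.sum_congr rfl fun c _ => ?_
      rw [Finset.sum_congr rfl (g := fun _ => e'.coeff c * e'.coeff (c⁻¹ * π δ)) fun γ hγ => by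
        rw [← (Finset.mem_filter.mp hγ).2, ← map_inv π, ← map_mul π, he'c, he'c],
        Finset.sum_const, nsmul_eq_mul]
      congr 2
      rw [← card_emb_range N ρ, ← Fintype.card_subtype, ← Nat.card_eq_fintype_card]
      obtain ⟨γ₀, rfl⟩ := hπs c
      exact (Nat.card_congr
        { toFun := fun γ => ⟨γ₀⁻¹ * γ.1, QuotientGroup.eq.mp γ.2.symm⟩
          invFun := fun n => ⟨γ₀ * n.1, QuotientGroup.mk_mul_of_mem γ₀ n.2⟩
          left_inv := fun γ => Subtype.ext (mul_inv_cancel_left _ _)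
          right_inv := fun n => Subtype.ext (inv_mul_cancel_left _ _) }).symm
    · obtain ⟨γ, rfl⟩ := hπs q
      rw [he'c]
      simp only [hf, hy]
      rw [Finset.sum_eq_zero fun m _ => by
        rw [hs, zero_smul]
        by_contra hreg
        apply (Fact.out : p.Prime).ne_one
        have hγm : π (γ * emb N ρ m) = π γ := QuotientGroup.mk_mul_of_mem γ ⟨m, rfl⟩
        rw [← hγm] at hq
        set ε := γ * emb N ρ m
        have hεp : pr N ρ ε = pr N ρ γ * (m : G) := by rw [map_mul, pr_emb]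
        rw [← hεp] at hreg
        set k := orderOf (pr N ρ ε)
        have hmem : ε ^ k ∈ (pr N ρ).ker := by
          rw [MonoidHom.mem_ker, map_pow, pow_orderOf_eq_one]
        have h1 : orderOf ε ∣ k * Nat.card (pr N ρ).ker := by
          refine orderOf_dvd_of_pow_eq_one ?_
          rw [pow_mul]
          exact congrArg Subtype.val (pow_card_eq_one' (x := (⟨_, hmem⟩ : (pr N ρ).ker)))
        have h2 := hq.trans ((orderOf_map_dvd π ε).trans h1)
        rcases (Fact.out : p.Prime).dvd_mul.mp h2 with h | h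
        · exact absurd h hreg
        · exact (Nat.eq_one_of_dvd_coprimes (coprime_card_ker N ρ hNp) h dvd_rfl)]
      simp
  -- the parameters of the quotient
  have hkerSolv : Cfsg.IsPSolvable p (pr N ρ).ker :=
    ⟨1, ![⊥, ⊤], rfl, rfl, Fin.monotone_iff_le_succ.mpr fun i => by fin_cases i; exact bot_le,
      fun i => by fin_cases i <;> simp <;> infer_instance, fun i => by
        fin_cases i
        exact Or.inr (by simpa [Subgroup.relIndex_bot_left] using coprime_card_ker N ρ hNp)⟩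
  have hsol : Cfsg.IsPSolvable p (Ext N ρ ⧸ (emb N ρ).range) := by
    refine PSolvable.isPSolvable_of_surjective π hπs ?_
    refine PSolvable.isPSolvable_of_extension (pr N ρ).ker hkerSolv ?_
    exact PSolvable.isPSolvable_of_injective (QuotientGroup.kerLift (pr N ρ))
      (QuotientGroup.kerLift_injective _) hsolv
  have hidx : (Subgroup.center (Ext N ρ ⧸ (emb N ρ).range)).index ≤ N.index := by
    have hle : N.comap (pr N ρ) ≤ (Subgroup.center (Ext N ρ ⧸ (emb N ρ).range)).comap π := by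
      intro γ hγ
      set n : N := ⟨pr N ρ γ, hγ⟩
      have hker : (emb N ρ n)⁻¹ * γ ∈ (pr N ρ).ker := by
        rw [MonoidHom.mem_ker, map_mul, map_inv, pr_emb, inv_mul_cancel]
      have hγ' : π γ = π ((emb N ρ n)⁻¹ * γ) := by
        rw [map_mul, map_inv, show π (emb N ρ n) = 1 from (QuotientGroup.eq_one_iff _).mpr ⟨n, rfl⟩,
          inv_one, one_mul]
      rw [Subgroup.mem_comap, hγ', Subgroup.mem_center_iff]
      intro x
      obtain ⟨δ, rfl⟩ := hπs x
      rw [← map_mul, ← map_mul, commute_ker N ρ ⟨_, hker⟩ δ]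
    refine (Subgroup.index_comap_of_surjective _ hπs).symm.trans_le ?_
    refine (Nat.le_of_dvd ?_ (Subgroup.index_dvd_of_le hle)).trans ?_
    · exact Nat.pos_of_ne_zero Subgroup.index_ne_zero_of_finite
    · rw [Subgroup.index_comap]
      exact Nat.le_of_dvd (Nat.pos_of_ne_zero Subgroup.index_ne_zero_of_finite)
        (Subgroup.relIndex_dvd_index_of_normal N _)
  have hint := hIH _ hsol hidx e' hQ
  -- conclusion
  by_cases hg : g ∈ (pr N ρ).range
  · obtain ⟨γ, rfl⟩ := hg
    change LinearMap.trace ℂ _ (y (pr N ρ γ)) ∈ _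
    rw [hyγ, map_smul, smul_eq_mul]
    refine mul_mem (mul_mem (natCast_mem _ K) (he'c γ ▸ hint (π γ))) ?_
    exact mem_localRing_of_isIntegral (isIntegral_apply ⟨d, tau N ρ, rfl⟩ γ⁻¹)
  · change LinearMap.trace ℂ _ (y g) ∈ _
    rw [hyzero g hg, map_zero]
    exact zero_mem _

omit hρ in
/-- The step through a normal `p'`-subgroup. -/
theorem allIntegral_of_pPrime (hM : Cfsg.IsPModular p M) (hsolv : Cfsg.IsPSolvable p G)
    (hNp : (Nat.card N).Coprime p)
    (hIH : ∀ (Q : Type u) [Group Q] [Finite Q], Cfsg.IsPSolvable p Q →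
      (Subgroup.center Q).index ≤ N.index → AllIntegral p M Q) : AllIntegral p M G := by
  classical
  intro e he g
  haveI := Fintype.ofFinite N
  haveI := Fintype.ofFinite (Cfsg.IrrCharacter N)
  have h1 : (Nat.card N : ℂ) * e.coeff g =
      ∑ θ : Cfsg.IrrCharacter N, (θ : N → ℂ) 1 * ∑ m : N, e.coeff (g * (m : G)) * (θ : N → ℂ) m := by
    simp only [Finset.mul_sum, mul_left_comm ((_ : Cfsg.IrrCharacter N).1 1)]
    rw [Finset.sum_comm]
    simp only [← Finset.mul_sum, sum_degree_mul_char]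
    simp [mul_comm]
  have h2 : (Nat.card N : ℂ) * e.coeff g ∈ localRing M := by
    rw [h1]
    refine sum_mem fun θ _ => mul_mem (char_mem_localRing θ 1) ?_
    obtain ⟨n, σ, hσ, hθ⟩ := exists_rep θ
    haveI := hσ
    have := trace_mem N σ hM hsolv hNp hIH e he g
    rw [map_sum] at this
    simpa [← hθ, Representation.character] using this
  have := mul_mem (inv_natCast_mem (M := M) hM hNp) h2
  rwa [inv_mul_cancel_left₀ (Nat.cast_ne_zero.mpr (Nat.card_pos (α := N)).ne')] at this

end Cfsg.Agent.Lib.IdemIntegral
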