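import Cfsg.Agent.Lib.IdemIntegral.Quotient
import Cfsg.Agent.Lib.IdemIntegral.PPrimeNormal

/-!
# Idempotents of a p-solvable group vanishing at the p-singular elements are integral

Induction on the index of the centre and then on the order: divide by an abelian normal
`p`-subgroup, or pass through the `p'`-core.
-/

set_option autoImplicit false
set_option linter.unusedSectionVars false

namespace Cfsg.Agent.Lib.IdemIntegral

open MonoidAlgebra Cfsg.Agent.Lib.Blocks Cfsg.Agent.Lib.BrauerMap.Basic

universe u

variable {p : ℕ} [Fact p.Prime] {M : Ideal Cfsg.AlgInt} [M.IsMaximal]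

/-- The order of a `p`-solvable group with trivial `O_p` and central `O_{p'}` is prime to `p`. -/
theorem coprime_of_central {G : Type u} [Group G] [Finite G] (hsolv : Cfsg.IsPSolvable p G)
    (hO : Cfsg.pCore p G = ⊥) (hZ : Cfsg.pPrimeCore p G ≤ Subgroup.center G) :
    (Nat.card G).Coprime p := by
  set N := Cfsg.pPrimeCore p G with hN
  have hNp : (Nat.card N).Coprime p := PSolvable.card_pPrimeCore_coprime
  suffices N = ⊤ by rwa [this, Subgroup.card_top] at hNp
  by_contra hne
  obtain ⟨L, hL, hlt, hpn⟩ := PSolvable.exists_step hsolv N hne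
  haveI := hL
  have hcard : Nat.card L = Nat.card N * N.relIndex L := by
    rw [← Subgroup.relIndex_bot_left, ← Subgroup.relIndex_bot_left,
      Subgroup.relIndex_mul_relIndex ⊥ N L bot_le hlt.le]
  rcases hpn with ⟨m, hm⟩ | hc
  · obtain ⟨P⟩ : Nonempty (Sylow p L) := inferInstance
    set N' := N.subgroupOf L with hN'
    have hPN : (P : Subgroup L) ⊔ N' = ⊤ := by
      refine Subgroup.eq_top_of_card_eq _ (Nat.dvd_antisymm ?_ ?_)
      · exact (Subgroup.card_subgroup_dvd_card _)
      · have hP : p ^ m ∣ Nat.card P := by
          rw [P.card_eq_multiplicity]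
          refine pow_dvd_pow p ?_
          rw [hcard, hm, Nat.factorization_mul Nat.card_pos.ne'
            (pow_ne_zero _ (Fact.out : p.Prime).ne_zero), Finsupp.add_apply,
            (Fact.out : p.Prime).factorization_pow, Finsupp.single_eq_same]
          exact Nat.le_add_left _ _
        rw [hcard, hm]
        refine Nat.Coprime.mul_dvd_of_dvd_of_dvd (hNp.pow_right m) ?_ ?_
        · rw [← Nat.card_congr (Subgroup.subgroupOfEquivOfLe hlt.le).toEquiv]
          exact Subgroup.card_dvd_of_le le_sup_right
        · exact hP.trans (Subgroup.card_dvd_of_le le_sup_left)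
    have hPn : (P : Subgroup L).Normal := by
      refine Subgroup.normalizer_eq_top_iff.mp (top_le_iff.mp ?_)
      rw [← hPN]
      refine sup_le Subgroup.le_normalizer fun n hn => ?_
      have hc' : ∀ x : L, n * x * n⁻¹ = x := fun x => Subtype.ext (by
        have h1 := Subgroup.mem_center_iff.mp (hZ hn) (x : G)
        show (n : G) * (x : G) * (n : G)⁻¹ = (x : G)
        rw [show (n : G) * (x : G) = (x : G) * (n : G) from h1.symm, mul_inv_cancel_right])
      rw [Subgroup.mem_normalizer_iff]
      intro x
      rw [hc']
    have hPc : (P : Subgroup L).Characteristic := P.characteristic_of_normal hPn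
    have hnorm : ((P : Subgroup L).map L.subtype).Normal := inferInstance
    have hbot : (P : Subgroup L).map L.subtype ≤ ⊥ :=
      hO ▸ PSolvable.le_pCore hnorm (P.2.map _)
    rw [le_bot_iff, Subgroup.map_eq_bot_iff_of_injective _ L.subtype_injective] at hbot
    rw [hbot, bot_sup_eq] at hPN
    refine hlt.not_ge fun x hx => ?_
    have : (⟨x, hx⟩ : L) ∈ N' := hPN ▸ Subgroup.mem_top _
    exact this
  · exact hlt.not_ge (PSolvable.le_pPrimeCore hL (hcard ▸ hNp.mul_left hc))

theorem allIntegral_aux (hM : Cfsg.IsPModular p M) :
    ∀ (a b : ℕ) (G : Type u) [Group G] [Finite G], Cfsg.IsPSolvable p G →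
      (Subgroup.center G).index = a → Nat.card G = b → AllIntegral p M G := by
  intro a
  induction a using Nat.strong_induction_on with
  | _ a iha =>
    intro b
    induction b using Nat.strong_induction_on with
    | _ b ihb =>
      intro G _ _ hsolv ha hb
      classical
      by_cases hO : Cfsg.pCore p G = ⊥
      · by_cases hZ : Cfsg.pPrimeCore p G ≤ Subgroup.center G
        · exact allIntegral_of_coprime hM (coprime_of_central hsolv hO hZ)
        · refine allIntegral_of_pPrime (Cfsg.pPrimeCore p G) hM hsolv
            PSolvable.card_pPrimeCore_coprime fun Q _ _ hQ hidx => iha _ ?_ _ Q hQ rfl rfl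
          have hZp : Subgroup.center G ≤ Cfsg.pPrimeCore p G := by
            refine PSolvable.le_pPrimeCore inferInstance ?_
            refine Nat.coprime_comm.mp ((Fact.out : p.Prime).coprime_iff_not_dvd.mpr fun hd => ?_)
            obtain ⟨z, hz⟩ := exists_prime_orderOf_dvd_card' p hd
            have hzn : (Subgroup.zpowers (z : G)).Normal := ⟨fun x hx g => by
              have hxc : x ∈ Subgroup.center G := (Subgroup.zpowers_le.mpr z.2) hx
              rwa [Subgroup.mem_center_iff.mp hxc g, mul_inv_cancel_right]⟩
            have hle := PSolvable.le_pCore (p := p) hzn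
              (IsPGroup.of_card (n := 1) (by rw [Nat.card_zpowers, Subgroup.orderOf_coe, hz, pow_one]))
            rw [hO, le_bot_iff, Subgroup.zpowers_eq_bot] at hle
            rw [← Subgroup.orderOf_coe, hle, orderOf_one] at hz
            exact (Fact.out : p.Prime).ne_one hz.symm
          have hlt : (Cfsg.pPrimeCore p G).index < (Subgroup.center G).index := by
            refine lt_of_le_of_ne (Nat.le_of_dvd (Nat.pos_of_ne_zero Subgroup.index_ne_zero_of_finite)
              (Subgroup.index_dvd_of_le hZp)) fun heq => hZ ?_
            have h1 := Subgroup.relIndex_mul_index hZp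
            rw [heq] at h1
            exact Subgroup.relIndex_eq_one.mp
              (Nat.eq_one_of_mul_eq_one_right (n := 1) (by
                simpa using Nat.eq_of_mul_eq_mul_right
                  (Nat.pos_of_ne_zero (Subgroup.index_ne_zero_of_finite (H := Subgroup.center G)))
                  (h1.trans (one_mul _).symm)))
          omega
      · -- divide by the centre of `O_p`
        set O := Cfsg.pCore p G
        haveI : Nontrivial O := (Subgroup.nontrivial_iff_ne_bot O).mpr hO
        set Q := (Subgroup.center O).map O.subtype with hQdef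
        haveI hQn : Q.Normal := by rw [hQdef]; infer_instance
        have hab : ∀ x ∈ Q, ∀ y ∈ Q, x * y = y * x := by
          rintro _ ⟨x, hx, rfl⟩ _ ⟨y, hy, rfl⟩
          exact congrArg Subtype.val (Subgroup.mem_center_iff.mp hy x)
        have hQp : IsPGroup p Q := (PSolvable.isPGroup_pCore.to_subgroup _).map _
        have hQne : Q ≠ ⊥ := by
          rw [hQdef, Ne, Subgroup.map_eq_bot_iff_of_injective _ O.subtype_injective]
          exact (PSolvable.isPGroup_pCore (p := p) (G := G)).center_nontrivial |>
            (fun h => (Subgroup.nontrivial_iff_ne_bot _).mp h)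
        intro e he
        refine mem_localRing_of_quotient hM Q hab hQp e he.1 he.2.1 he.2.2 ?_
        set π := MonoidAlgebra.mapDomainAlgHom ℂ ℂ (QuotientGroup.mk' Q)
        haveI := Fintype.ofFinite Q
        have hreg : IsRegIdem p (π e) := by
          refine ⟨fun x c => ?_, by rw [← map_mul, he.2.1], fun c hc => ?_⟩
          · obtain ⟨v, rfl⟩ := QuotientGroup.mk_surjective x
            obtain ⟨h, rfl⟩ := QuotientGroup.mk_surjective c
            rw [← QuotientGroup.mk_inv, ← QuotientGroup.mk_mul, ← QuotientGroup.mk_mul,
              coset_coeff, coset_coeff]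
            refine Fintype.sum_equiv (MulAut.conjNormal v⁻¹).toEquiv _ _ fun q => ?_
            rw [MulEquiv.toEquiv_eq_coe, MulEquiv.coe_toEquiv, MulAut.conjNormal_apply,
              ← he.1 v (h * (v⁻¹ * (q : G) * v⁻¹⁻¹))]
            congr 1
            group
          · obtain ⟨h, rfl⟩ := QuotientGroup.mk_surjective c
            rw [coset_coeff]
            refine Finset.sum_eq_zero fun q _ => he.2.2 _ (hc.trans ?_)
            rw [← QuotientGroup.mk_mul_of_mem h q.2]
            exact orderOf_map_dvd (QuotientGroup.mk' Q) _
        have hcard : Nat.card (G ⧸ Q) < b := by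
          rw [← hb, Subgroup.card_eq_card_quotient_mul_card_subgroup Q]
          exact lt_mul_of_one_lt_right Nat.card_pos
            (Finite.one_lt_card_iff_nontrivial.mpr ((Subgroup.nontrivial_iff_ne_bot Q).mpr hQne))
        have hidx : (Subgroup.center (G ⧸ Q)).index ≤ a := by
          rw [← ha]
          have hle : (Subgroup.center G).map (QuotientGroup.mk' Q) ≤ Subgroup.center (G ⧸ Q) := by
            rintro _ ⟨z, hz, rfl⟩
            rw [Subgroup.mem_center_iff]
            intro x
            obtain ⟨v, rfl⟩ := QuotientGroup.mk'_surjective Q x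
            rw [← map_mul, ← map_mul, Subgroup.mem_center_iff.mp hz v]
          exact Nat.le_of_dvd (Nat.pos_of_ne_zero Subgroup.index_ne_zero_of_finite)
            ((Subgroup.index_dvd_of_le hle).trans
              (Subgroup.index_map_dvd _ (QuotientGroup.mk'_surjective Q)))
        rcases hidx.lt_or_eq with hlt | heq
        · exact iha _ hlt _ (G ⧸ Q) (PSolvable.isPSolvable_quotient hsolv Q) rfl rfl _ hreg
        · exact ihb _ hcard (G ⧸ Q) (PSolvable.isPSolvable_quotient hsolv Q) heq rfl _ hreg

/-- In a `p`-solvable group a central idempotent of the complex group algebra that vanishes at the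
`p`-singular elements has coefficients in the local ring. -/
theorem allIntegral {G : Type u} [Group G] [Finite G] (hM : Cfsg.IsPModular p M)
    (hsolv : Cfsg.IsPSolvable p G) : AllIntegral p M G :=
  allIntegral_aux hM _ _ G hsolv rfl rfl

end Cfsg.Agent.Lib.IdemIntegral
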