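import Cfsg.Agent.Lib.IdemIntegral.Lift
import Cfsg.Agent.Lib.Blocks.Orthogonality

/-!
# Descending integrality of an idempotent through an abelian normal p-subgroup

A central idempotent vanishing at the `p`-singular elements whose image in the group algebra of
`G/Q` is integral is integral: it equals the lift of its image.
-/

set_option autoImplicit false
set_option linter.unusedSectionVars false

namespace Cfsg.Agent.Lib.IdemIntegral

open MonoidAlgebra Cfsg.Agent.Lib.Blocks Cfsg.Agent.Lib.BrauerMap.Basic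

universe u

variable {G : Type u} [Group G] [Finite G] {p : ℕ} [Fact p.Prime]
  {M : Ideal Cfsg.AlgInt} [M.IsMaximal]

/-- Two `p`-regular elements congruent modulo an abelian normal `p`-subgroup are conjugate. -/
theorem isConj_of_regular (Q : Subgroup G) [hQn : Q.Normal]
    (hab : ∀ a ∈ Q, ∀ b ∈ Q, a * b = b * a) (hQ : IsPGroup p Q) {g q : G} (hq : q ∈ Q)
    (hg : ¬ p ∣ orderOf g) (hgq : ¬ p ∣ orderOf (g * q)) : IsConj g (g * q) := by
  letI : CommGroup Q :=
    { (inferInstance : Group Q) with mul_comm := fun a b => Subtype.ext (hab a a.2 b b.2) }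
  set m := orderOf g * orderOf (g * q) with hm
  have hmp : ¬ p ∣ m := fun h => ((Fact.out : p.Prime).dvd_mul.mp h).elim hg hgq
  have h1 : g ^ m = 1 := orderOf_dvd_iff_pow_eq_one.mp (dvd_mul_right _ _)
  have h2 : (g * q) ^ m = 1 := orderOf_dvd_iff_pow_eq_one.mp (dvd_mul_left _ _)
  have hcmem : ∀ i : ℕ, (g * q) ^ i * (g ^ i)⁻¹ ∈ Q := fun i => by
    rw [← QuotientGroup.eq_one_iff, QuotientGroup.mk_mul, QuotientGroup.mk_inv, QuotientGroup.mk_pow,
      QuotientGroup.mk_pow, QuotientGroup.mk_mul_of_mem g hq, mul_inv_cancel]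
  set c : ℕ → Q := fun i => ⟨_, hcmem i⟩ with hc
  set σ : MulAut Q := MulAut.conjNormal g with hσ
  have hstep : ∀ i, c (i + 1) = σ (⟨q, hq⟩ * c i) := fun i => Subtype.ext <| by
    rw [MulAut.conjNormal_apply]
    show (g * q) ^ (i + 1) * (g ^ (i + 1))⁻¹ = g * (q * ((g * q) ^ i * (g ^ i)⁻¹)) * g⁻¹
    rw [pow_succ', pow_succ']
    group
  set Y := ∏ i ∈ Finset.range m, c i with hY
  have hYeq : Y = σ (⟨q, hq⟩ ^ m * Y) := by
    have h0 : c 0 = c m := Subtype.ext (by simp [hc, h1, h2])
    have hshift : ∏ i ∈ Finset.range m, c (i + 1) = Y := by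
      have e1 := Finset.prod_range_succ c m
      rw [Finset.prod_range_succ' c m, h0] at e1
      exact mul_right_cancel e1
    conv_lhs => rw [← hshift]
    simp only [hstep, ← map_prod, Finset.prod_mul_distrib, Finset.prod_const, Finset.card_range, hY]
  obtain ⟨j, hj⟩ := IsPGroup.iff_card.mp hQ
  have hcop : Nat.Coprime (p ^ j) m :=
    Nat.Coprime.pow_left _ ((Fact.out : p.Prime).coprime_iff_not_dvd.mpr hmp)
  obtain ⟨k, hk⟩ : ∃ k : ℕ, (⟨q, hq⟩ : Q) ^ (m * k) = ⟨q, hq⟩ := by
    have hord : (orderOf (⟨q, hq⟩ : Q)).Coprime m :=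
      hcop.coprime_dvd_left (hj ▸ orderOf_dvd_natCard _)
    obtain ⟨k, hk⟩ := exists_pow_eq_self_of_coprime hord.symm
    exact ⟨k, by rw [pow_mul]; exact hk⟩
  have hy := congrArg (· ^ k) hYeq
  simp only [← map_pow, mul_pow, ← pow_mul, hk] at hy
  have hy' := congrArg Subtype.val hy
  rw [MulAut.conjNormal_apply] at hy'
  set y := ((Y ^ k : Q) : G)
  have hcomm : q * y = y * q := hab q hq y (Y ^ k).2
  refine isConj_iff.mpr ⟨y, ?_⟩
  have hy'' : y * g = g * (y * q) := by
    rw [← hcomm]
    calc y * g = g * (q * y) * g⁻¹ * g := congrArg (· * g) hy'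
      _ = g * (q * y) := inv_mul_cancel_right _ _
  calc y * g * y⁻¹ = g * (q * y) * y⁻¹ := by rw [hy'', hcomm]
    _ = g * q := by group

/-- The diagonal sums of an idempotent over the local ring vanish at `p`-singular elements. -/
theorem sum_conj_coeff_eq_zero [Fintype G] (hM : Cfsg.IsPModular p M)
    (E : MonoidAlgebra (localRing M) G) (hE : E * E = E) {g : G} (hg : p ∣ orderOf g) :
    ∑ v : G, E.coeff (v * g * v⁻¹) = 0 := by
  classical
  obtain ⟨x, hx⟩ := exists_isPPart hM.1 g⁻¹
  have hx1 : x ≠ 1 := isPPart_ne_one hx (by rwa [orderOf_inv])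
  obtain ⟨s, hxs, hcxs, ⟨i, hi⟩, hs⟩ := hx
  set π : Equiv.Perm G := Equiv.mulLeft x with hπ
  have hπpow : ∀ (n : ℕ) (v : G), (π ^ n) v = x ^ n * v := by
    intro n
    induction n with
    | zero => simp
    | succ n ih =>
      intro v
      rw [pow_succ', Equiv.Perm.mul_apply, ih, pow_succ' x]
      simp only [hπ, Equiv.coe_mulLeft, mul_assoc]
  have hπk : π ^ p ^ i = 1 := Equiv.ext fun v => by
    rw [hπpow, ← hi, pow_orderOf_eq_one]; simp
  have hfix : ∀ v, π v ≠ v := fun v hv => hx1 (mul_eq_right.mp hv)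
  obtain ⟨S, hS, hS'⟩ := exists_orbit_class hM.1 π hπk hfix
  have htp : ∀ (n : ℕ) (v : G) (r : localRing M),
      (twoSided (localRing M) (x, 1) ^ n) (single v r) = single ((π ^ n) v) r := fun n v r => by
    rw [← map_pow, Prod.pow_mk, twoSided_single, hπpow, one_pow, inv_one, mul_one]
  have hinvp : ∀ (n : ℕ) (v : G) (r : localRing M),
      (twoSided (localRing M) (x⁻¹, 1) ^ n) (single v r) = single ((π⁻¹ ^ n) v) r := fun n v r => by
    rw [← map_pow, Prod.pow_mk, twoSided_single, one_pow, inv_one, mul_one]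
    congr 1
    rw [inv_pow, inv_pow, eq_comm, Equiv.Perm.inv_eq_iff_eq, hπpow, mul_inv_cancel_left]
  have hH : IsHigman p (twoSided (localRing M) (x, 1)) (twoSided (localRing M) (x⁻¹, 1))
      (setProj S) :=
    { right_inv := by rw [← map_mul, Prod.mk_mul_mk, mul_inv_cancel, mul_one]; exact map_one _
      left_inv := by rw [← map_mul, Prod.mk_mul_mk, inv_mul_cancel, mul_one]; exact map_one _
      comm := by
        refine endExt (localRing M) fun v r => ?_
        rw [Module.End.mul_apply, Module.End.mul_apply, htp, setProj_single, setProj_single]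
        by_cases hv : S v
        · rw [if_pos ((hS v).mpr hv), if_pos hv, htp]
        · rw [if_neg (fun h => hv ((hS v).mp h)), if_neg hv, map_zero]
      sum_eq := by
        refine endExt (localRing M) fun v r => ?_
        obtain ⟨i₀, ⟨hi₀, hSi₀⟩, huniq⟩ := hS' v
        rw [LinearMap.sum_apply, Finset.sum_eq_single i₀]
        · rw [Module.End.mul_apply, Module.End.mul_apply, hinvp, setProj_single, if_pos hSi₀, htp,
            Module.End.one_apply, ← Equiv.Perm.mul_apply, inv_pow, mul_inv_cancel,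
            Equiv.Perm.one_apply]
        · intro n hn hne'
          rw [Module.End.mul_apply, Module.End.mul_apply, hinvp, setProj_single,
            if_neg fun h => hne' (huniq n ⟨Finset.mem_range.mp hn, h⟩), map_zero]
        · exact fun h => absurd (Finset.mem_range.mpr hi₀) h }
  haveI : Module.Free (localRing M) (MonoidAlgebra (localRing M) G) :=
    Module.Free.of_equiv (MonoidAlgebra.coeffLinearEquiv (localRing M)).symm
  haveI : Module.Finite (localRing M) (MonoidAlgebra (localRing M) G) :=
    Module.Finite.equiv (MonoidAlgebra.coeffLinearEquiv (localRing M)).symm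
  have hcE : ∀ a : G, Commute (twoSided (localRing M) (a, 1))
      (LinearMap.mulRight (localRing M) E) := fun a => LinearMap.ext fun z => by
    simp only [Module.End.mul_apply, LinearMap.mulRight_apply, twoSided_apply, inv_one, ← one_def,
      mul_one, mul_assoc]
  have key := trace_eq_zero_of_isHigman_twist hM (σ := twoSided (localRing M) (x, 1))
    (D := twoSided (localRing M) (s, 1)) (E := LinearMap.mulRight (localRing M) E) (k := i)
    (m := orderOf s) ?_ hH ?_ (hcE x) hs ?_ ?_ (hcE s)
  · rw [← map_mul, Prod.mk_mul_mk, hxs, mul_one] at key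
    rw [← key, LinearMap.trace_eq_matrix_trace (localRing M)
      (Module.Basis.ofRepr (MonoidAlgebra.coeffLinearEquiv (localRing M)) :
        Module.Basis G (localRing M) (MonoidAlgebra (localRing M) G)), Matrix.trace]
    refine Fintype.sum_equiv (Equiv.inv G) _ _ fun v => ?_
    have hbv : (Module.Basis.ofRepr (MonoidAlgebra.coeffLinearEquiv (localRing M)) :
        Module.Basis G (localRing M) (MonoidAlgebra (localRing M) G)) v⁻¹ = single v⁻¹ 1 := by
      apply MonoidAlgebra.coeff_injective
      simp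
    rw [Matrix.diag, LinearMap.toMatrix_apply, Equiv.inv_apply, hbv, Module.End.mul_apply,
      LinearMap.mulRight_apply, twoSided_apply]
    change _ = (single g⁻¹ 1 * (single v⁻¹ 1 * E) * single (1 : G)⁻¹ 1).coeff v⁻¹
    rw [inv_one, ← one_def, mul_one, coeff_single_mul_apply, coeff_single_mul_apply, one_mul,
      one_mul]
    congr 1
    group
  · rw [← map_pow, Prod.pow_mk, ← hi, pow_orderOf_eq_one, one_pow]
    exact map_one _
  · exact LinearMap.ext fun z => by
      simp only [Module.End.mul_apply, LinearMap.mulRight_apply, mul_assoc, hE]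
  · rw [← map_pow, Prod.pow_mk, pow_orderOf_eq_one, one_pow]
    exact map_one _
  · exact (Prod.commute_iff.mpr ⟨hcxs, Commute.one_left _⟩).map _

/-- An idempotent of the complex group algebra with zero coefficient at the identity is zero. -/
theorem eq_zero_of_coeff_one [Fintype G] {z : MonoidAlgebra ℂ G} (hz : z * z = z)
    (h1 : z.coeff 1 = 0) : z = 0 := by
  classical
  set bs : Module.Basis G ℂ (MonoidAlgebra ℂ G) :=
    Module.Basis.ofRepr (MonoidAlgebra.coeffLinearEquiv ℂ)
  haveI : Module.Finite ℂ (MonoidAlgebra ℂ G) := Module.Finite.of_basis bs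
  have hidem : IsIdempotentElem (LinearMap.mulLeft ℂ z) := LinearMap.ext fun w => by
    simp only [Module.End.mul_apply, LinearMap.mulLeft_apply, ← mul_assoc, hz]
  obtain ⟨W, hW⟩ := (LinearMap.isProj_iff_isIdempotentElem _).mpr hidem
  have ht : LinearMap.trace ℂ _ (LinearMap.mulLeft ℂ z) = 0 := by
    rw [LinearMap.trace_eq_matrix_trace ℂ bs, Matrix.trace]
    refine Finset.sum_eq_zero fun v _ => ?_
    have := coeff_leftMulMatrix z v v
    rw [Algebra.leftMulMatrix_eq_repr_mul, mul_inv_cancel, h1] at this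
    rw [Matrix.diag, LinearMap.toMatrix_apply, LinearMap.mulLeft_apply]
    exact this
  rw [hW.trace] at ht
  have hW0 : W = ⊥ := Submodule.finrank_eq_zero.mp (by exact_mod_cast ht)
  have := hW.map_mem 1
  rw [hW0, Submodule.mem_bot, LinearMap.mulLeft_apply, mul_one] at this
  exact this

open scoped Classical in
theorem coset_coeff {k : Type*} [CommRing k] (Q : Subgroup G) [Q.Normal] [Fintype Q]
    (z : MonoidAlgebra k G) (g : G) :
    (MonoidAlgebra.mapDomainAlgHom k k (QuotientGroup.mk' Q) z).coeff (QuotientGroup.mk g) =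
      ∑ q : Q, z.coeff (g * (q : G)) := by
  induction z using MonoidAlgebra.induction_linear with
  | zero => simp
  | add a b ha hb => simp only [map_add, coeff_add, Finsupp.add_apply, ha, hb, Finset.sum_add_distrib]
  | single h r =>
    rw [show MonoidAlgebra.mapDomainAlgHom k k (QuotientGroup.mk' Q) (single h r) =
      single (QuotientGroup.mk h : G ⧸ Q) r by simp]
    simp only [coeff_single, Finsupp.single_apply]
    by_cases hh : (QuotientGroup.mk h : G ⧸ Q) = QuotientGroup.mk g
    · rw [if_pos hh, Finset.sum_eq_single ⟨g⁻¹ * h, QuotientGroup.eq.mp hh.symm⟩]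
      · simp
      · intro q _ hq
        rw [if_neg fun he => hq (Subtype.ext (by simp [he]))]
      · exact fun hn => absurd (Finset.mem_univ _) hn
    · rw [if_neg hh, eq_comm]
      refine Finset.sum_eq_zero fun q _ => if_neg fun he => hh ?_
      rw [he, QuotientGroup.mk_mul_of_mem _ q.2]

set_option maxHeartbeats 1000000 in
/-- Descent through an abelian normal `p`-subgroup. -/
theorem mem_localRing_of_quotient (hM : Cfsg.IsPModular p M) (Q : Subgroup G) [hQn : Q.Normal]
    (hab : ∀ a ∈ Q, ∀ b ∈ Q, a * b = b * a) (hQ : IsPGroup p Q) (e : MonoidAlgebra ℂ G)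
    (hc : ∀ u g : G, e.coeff (u * g * u⁻¹) = e.coeff g) (he : e * e = e)
    (hs : ∀ g : G, p ∣ orderOf g → e.coeff g = 0)
    (hbar : ∀ c, (MonoidAlgebra.mapDomainAlgHom ℂ ℂ (QuotientGroup.mk' Q) e).coeff c ∈ localRing M)
    (g : G) : e.coeff g ∈ localRing M := by
  classical
  haveI := Fintype.ofFinite G
  haveI := Fintype.ofFinite Q
  haveI := Fintype.ofFinite (G ⧸ Q)
  letI := Ideal.Quotient.field M
  haveI := charP_residue hM
  set mc := MonoidAlgebra.mapDomainAlgHom ℂ ℂ (QuotientGroup.mk' Q) with hmc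
  let ι : MonoidAlgebra (localRing M) G →+* MonoidAlgebra ℂ G :=
    MonoidAlgebra.mapRingHom G (localRing M).subtype
  have hιc : ∀ (z : MonoidAlgebra (localRing M) G) (h : G),
      (ι z).coeff h = ((z.coeff h : localRing M) : ℂ) :=
    fun z h => coeff_mapRingHom (localRing M).subtype z h
  let π : MonoidAlgebra (localRing M) G →ₐ[localRing M] MonoidAlgebra ℂ (G ⧸ Q) :=
    MonoidAlgebra.lift (localRing M) (MonoidAlgebra ℂ (G ⧸ Q)) G
      ((MonoidAlgebra.of ℂ (G ⧸ Q)).comp (QuotientGroup.mk' Q))
  have hπι : ∀ z, π z = mc (ι z) := fun z => by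
    induction z using MonoidAlgebra.induction_linear with
    | zero => simp
    | add a b ha hb => simp only [map_add, ha, hb]
    | single h r =>
      simp [π, ι, hmc, MonoidAlgebra.lift_single, Algebra.smul_def]
      rfl
  let a : MonoidAlgebra (localRing M) G := ∑ c : G ⧸ Q, single c.out ⟨(mc e).coeff c, hbar c⟩
  have hπa : π a = mc e := by
    rw [hπι, map_sum, map_sum]
    refine (Finset.sum_congr rfl fun c _ => ?_).trans (show ∑ c : G ⧸ Q, single c ((mc e).coeff c) =
      mc e by
        ext d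
        rw [coeff_sum, Finsupp.finsetSum_apply, Finset.sum_eq_single d] <;> simp +contextual)
    rw [show ι (single c.out ⟨(mc e).coeff c, hbar c⟩) = single c.out ((mc e).coeff c) by simp [ι]]
    simp [hmc]
  have hidem : π a * π a = π a := by rw [hπa, ← map_mul, he]
  -- nilpotency
  have hx0 : ∀ h : G, ∑ q : Q, (a * a - a).coeff (h * (q : G)) = 0 := fun h => by
    refine Subtype.ext ?_
    push_cast
    simp only [← hιc]
    rw [← coset_coeff Q (ι (a * a - a)) h, ← hmc, ← hπι, map_sub, map_mul, hidem, sub_self]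
    simp
  obtain ⟨n, hn⟩ := isNilpotent_of_coset_sum (k := Cfsg.AlgInt ⧸ M) Q hab hQ
    (MonoidAlgebra.mapRingHom G (residue M) (a * a - a)) (fun h => by
      simp only [coeff_mapRingHom, ← map_sum, hx0, map_zero])
  obtain ⟨P, hPi, hPπ⟩ := exists_idem_lift a ⟨n, fun h => by
    rw [← coeff_mapRingHom (residue M), map_pow, hn]; simp⟩
  set E := Polynomial.aeval a P with hE
  set eh := ι E with heh
  have hehh : eh * eh = eh := by rw [heh, ← map_mul, hPi.eq]
  have hehbar : mc eh = mc e := by rw [heh, ← hπι, hE, hPπ _ π hidem, hπa]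
  -- the class function of the lift
  set f : G → ℂ := fun h => ∑ v : G, eh.coeff (v * h * v⁻¹) with hf
  have hfs : ∀ h : G, p ∣ orderOf h → f h = 0 := fun h hh => by
    simp only [hf, heh, hιc]
    rw [← AddSubmonoidClass.coe_finsetSum, sum_conj_coeff_eq_zero hM E hPi.eq hh]
    rfl
  have hfc : ∀ u h : G, f (u * h * u⁻¹) = f h := fun u h => by
    simp only [hf]
    exact Fintype.sum_equiv (Equiv.mulRight u) _ _ fun v => by
      rw [Equiv.coe_mulRight]; congr 1; group
  have hmce : ∀ v h : G, (mc e).coeff (QuotientGroup.mk (v * h * v⁻¹)) =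
      (mc e).coeff (QuotientGroup.mk h) := fun v h => by
    rw [hmc, coset_coeff, coset_coeff]
    refine Fintype.sum_equiv (MulAut.conjNormal v⁻¹).toEquiv _ _ fun q => ?_
    rw [MulEquiv.toEquiv_eq_coe, MulEquiv.coe_toEquiv, MulAut.conjNormal_apply,
      ← hc v (h * (v⁻¹ * (q : G) * v⁻¹⁻¹))]
    congr 1
    group
  have hfe : ∀ h : G, f h = (Nat.card G : ℂ) * e.coeff h := by
    intro h
    by_cases hh : p ∣ orderOf h
    · rw [hfs h hh, hs h hh, mul_zero]
    set D : G → ℂ := fun x => f x - (Nat.card G : ℂ) * e.coeff x with hD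
    have h1 : ∑ q : Q, D (h * (q : G)) = 0 := by
      simp only [hD, Finset.sum_sub_distrib, ← Finset.mul_sum, hf]
      rw [Finset.sum_comm, Finset.sum_congr rfl (g := fun _ : G => ∑ q : Q, e.coeff (h * (q : G))),
        Finset.sum_const, Finset.card_univ, nsmul_eq_mul, ← Nat.card_eq_fintype_card, sub_self]
      intro v _
      rw [← coset_coeff Q e h, ← hmc, ← hmce v h, ← hehbar, hmc, coset_coeff]
      refine Fintype.sum_equiv (MulAut.conjNormal v).toEquiv _ _ fun q => ?_
      rw [MulEquiv.toEquiv_eq_coe, MulEquiv.coe_toEquiv, MulAut.conjNormal_apply]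
      congr 1
      group
    have h2 : ∀ q : Q, D (h * (q : G)) = if p ∣ orderOf (h * (q : G)) then 0 else D h := by
      intro q
      split_ifs with hq
      · simp only [hD, hfs _ hq, hs _ hq, mul_zero, sub_zero]
      · obtain ⟨y, hy⟩ := isConj_iff.mp (isConj_of_regular Q hab hQ q.2 hh hq)
        simp only [hD, ← hy, hfc, hc]
    rw [Finset.sum_congr rfl fun q _ => h2 q, Finset.sum_ite, Finset.sum_const_zero, zero_add,
      Finset.sum_const, nsmul_eq_mul, mul_eq_zero] at h1
    refine sub_eq_zero.mp (h1.resolve_left (Nat.cast_ne_zero.mpr ?_))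
    exact Finset.card_ne_zero.mpr ⟨1, Finset.mem_filter.mpr ⟨Finset.mem_univ _, by simpa using hh⟩⟩
  have hGne : (Nat.card G : ℂ) ≠ 0 := Nat.cast_ne_zero.mpr Nat.card_pos.ne'
  have hone : eh.coeff 1 = e.coeff 1 := by
    have := hfe 1
    simp only [hf, mul_one, mul_inv_cancel, Finset.sum_const, Finset.card_univ, nsmul_eq_mul,
      ← Nat.card_eq_fintype_card] at this
    exact mul_left_cancel₀ hGne this
  have hprod : (e * eh).coeff 1 = e.coeff 1 := by
    refine mul_left_cancel₀ hGne ?_
    conv_rhs => rw [← he]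
    rw [coeff_mul_sum, coeff_mul_sum, Finset.mul_sum, Finset.mul_sum]
    simp only [mul_one]
    calc ∑ b : G, (Nat.card G : ℂ) * (e.coeff b * eh.coeff b⁻¹)
        = ∑ v : G, ∑ b : G, e.coeff b * eh.coeff b⁻¹ := by
          rw [Finset.sum_const, Finset.card_univ, ← Nat.card_eq_fintype_card, nsmul_eq_mul,
            Finset.mul_sum]
      _ = ∑ v : G, ∑ b : G, e.coeff b * eh.coeff (v * b⁻¹ * v⁻¹) := by
          refine Finset.sum_congr rfl fun v _ => ?_
          refine Fintype.sum_equiv (MulAut.conj v⁻¹).toEquiv _ _ fun b => ?_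
          simp only [MulEquiv.toEquiv_eq_coe, MulEquiv.coe_toEquiv, MulAut.conj_apply]
          rw [hc]
          congr 2
          group
      _ = ∑ b : G, e.coeff b * f b⁻¹ := by
          rw [Finset.sum_comm]; simp only [hf, Finset.mul_sum]
      _ = _ := Finset.sum_congr rfl fun b _ => by rw [hfe]; ring
  have hcomm : e * eh = eh * e := by
    exact (Subalgebra.mem_center_iff.mp ((mem_center_iff_coeff e).mpr hc) eh).symm
  have hp : (e * eh) * (e * eh) = e * eh := by
    rw [mul_assoc, ← mul_assoc eh e eh, ← hcomm, ← mul_assoc, ← mul_assoc, he, mul_assoc, hehh]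
  have e1 : e - e * eh = 0 := by
    refine eq_zero_of_coeff_one ?_ (by simp [hprod])
    rw [sub_mul, mul_sub, mul_sub, hp, he, ← mul_assoc e e eh, he, mul_assoc e eh e, ← hcomm,
      ← mul_assoc e e eh, he]
    abel
  have e2 : eh - e * eh = 0 := by
    refine eq_zero_of_coeff_one ?_ (by simp [hprod, hone])
    rw [sub_mul, mul_sub, mul_sub, hp, hehh, mul_assoc e eh eh, hehh, ← mul_assoc eh e eh, ← hcomm,
      mul_assoc e eh eh, hehh]
    abel
  rw [sub_eq_zero] at e1 e2
  rw [e1, ← e2, heh, hιc]
  exact SetLike.coe_mem _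

end Cfsg.Agent.Lib.IdemIntegral
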